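import Cfsg.Agent.Lib.OreOrth.Two.Blocks

/-!
Commutator certificates for small blocks over the field with two elements.
-/

set_option autoImplicit false
set_option maxRecDepth 100000

namespace CfsgLib.OreOrth.Two

open Polynomial

/-- A polynomial. -/
def p3 : List Bool := [true, true, false, true]

/-- A polynomial. -/
def p4 : List Bool := [true, true, false, false, true]

/-- A polynomial. -/
def p5 : List Bool := [true, false, true, false, false, true]

/-- A polynomial. -/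
def q5 : List Bool := [true, true, true, true, false, true]

/-- A polynomial. -/
def p6 : List Bool := [true, true, false, false, false, false, true]

/-- A polynomial. -/
def p7 : List Bool := [true, true, false, false, false, false, false, true]

/-- A polynomial. -/
def p34 : List Bool := [true, false, true, true, false, true, false, true]

/-- A polynomial. -/
def p35 : List Bool := [true, true, true, false, false, false, true, false, true]

/-- The product of the polynomials. -/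
def phiB : List Bool := [true, true, false, true, true, false, false, false, true, false, false, true, false, false, false, true, true, false, true, false, true, true, false, false, true, true, true, false, false, false, true]

/-- The reversed product. -/
def phiR : List Bool := [true, false, false, false, true, true, true, false, false, true, true, false, true, false, true, true, false, false, false, true, false, false, true, false, false, false, true, true, false, true, true]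

theorem coprime_phiB : coprimeB phiB phiR [false, true, true, false, true, false, false, true, true, false, false, true, true, true, true, true, true, false, true, false, true, true, true, false, true, true, false, false, false, true] [true, true, false, true, true, true, true, false, true, false, true, false, true, true, false, false, true, false, true, false, true, false, true, false, false, false, false, true, true, true] = true := by decide +kernel

theorem coprime_p3_p4 : coprimeB p3 p4 [true, false, true] [false, true] = true := by decide +kernel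

theorem coprime_p3_p5 : coprimeB p3 p5 [false, false, false, false, true] [true, false, true] = true := by decide +kernel

theorem coprime_p3_p6 : coprimeB p3 p6 [false, false, true, true, true] [true, true] = true := by decide +kernel

theorem coprime_p3_p7 : coprimeB p3 p7 [false, true, false, true, false, false, true] [true, false, true] = true := by decide +kernel

theorem coprime_p4_p3 : coprimeB p4 p3 [false, true] [true, false, true] = true := by decide +kernel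

theorem coprime_p5_p3 : coprimeB p5 p3 [true, false, true] [false, false, false, false, true] = true := by decide +kernel

theorem coprime_p5_p4 : coprimeB p5 p4 [false, true, true, true] [true, false, true, true, true] = true := by decide +kernel

theorem coprime_p5_q5 : coprimeB p5 q5 [false, true, true, true, true] [true, false, false, true, true] = true := by decide +kernel

theorem coprime_p6_p3 : coprimeB p6 p3 [true, true] [false, false, true, true, true] = true := by decide +kernel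

theorem coprime_p6_p4 : coprimeB p6 p4 [false, false, false, true] [true, true, true, false, false, true] = true := by decide +kernel

theorem coprime_p6_p5 : coprimeB p6 p5 [false, false, true] [true, false, false, true] = true := by decide +kernel

/-- A polynomial. -/
def p33 : List Bool := [true, false, true, false, false, false, true]

/-- The square of the product. -/
def phiSq : List Bool := [true, false, true, false, false, false, true, false, true, false, false, false, false, false, false, false, true, false, false, false, false, false, true, false, false, false, false, false, false, false, true, false, true, false, false, false, true, false, false, false, true, false, true, false, false, false, false, false, true, false, true, false, true, false, false, false, false, false, false, false, true]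

/-- The cofactors in the product. -/
def cofac : List (List Bool × List Bool) :=
  [(p3, [true, true, false, true, false, false, false, false, true, true, true, false, true, false, false, true, false, false, true, true, true, false, false, true, true, true, false, true, false, false, false, false, true, true, true, false, false, true, true, true, true, false, false, true, true, true, false, true, true, true, true, false, false, true, true, true, false, true]),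
   (p4, [true, true, false, false, true, false, true, true, true, true, false, true, false, true, true, false, true, false, true, true, false, false, false, true, true, true, true, false, true, false, false, false, false, false, false, false, true, true, true, true, true, false, false, true, false, false, false, true, false, false, true, false, true, true, false, false, true]),
   (p5, [true, false, false, false, false, true, true, true, false, true, true, false, false, false, true, true, false, true, false, false, true, false, true, false, true, true, true, false, true, true, true, false, false, true, true, false, false, false, true, true, false, true, true, false, false, false, true, true, false, true, true, false, true, false, false, true]),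
   (q5, [true, true, true, true, true, false, false, false, false, true, true, false, false, true, false, false, false, false, true, true, false, false, false, true, false, true, false, true, true, false, false, true, true, true, true, true, true, false, true, true, false, true, true, true, false, false, false, true, true, false, true, false, true, true, false, true]),
   (p6, [true, true, false, false, false, false, false, true, false, false, false, false, false, true, true, true, false, false, false, true, false, true, false, false, false, true, true, false, false, false, true, false, false, false, false, false, false, false, false, false, true, true, false, false, false, false, true, false, true, true, false, false, false, false, true]),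
   (p7, [true, true, false, false, false, false, true, false, false, false, false, false, false, true, true, true, false, false, false, false, true, false, false, false, false, false, false, true, true, true, false, false, true, true, false, true, true, true, true, false, false, false, false, true, false, true, true, true, false, false, false, false, false, true]),
   (p34, [true, false, false, true, false, false, false, true, false, true, false, true, false, true, true, true, true, false, false, false, false, false, false, true, false, true, true, true, true, false, true, false, false, true, true, true, true, true, true, true, true, false, true, true, true, false, true, true, true, false, false, true, false, true]),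
   (p35, [true, true, true, false, true, true, false, false, true, false, true, false, false, true, false, true, false, true, false, false, false, false, true, true, false, false, false, false, true, false, true, false, false, false, true, true, true, false, false, false, false, true, false, false, true, true, false, false, true, false, true, false, true]),
   (p33, [true, false, false, false, false, false, false, false, true, false, true, false, true, false, false, false, false, false, true, false, true, false, false, false, true, false, false, false, false, false, false, false, true, false, true, false, false, false, true, false, true, false, false, false, true, false, false, false, true, false, true, false, false, false, true])]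

/-- The certificates. -/
def tab : List (List (ℕ × ℕ) × List ℕ × List ℕ × List ℕ × List ℕ × List Bool) :=
  [([(1, 1), (1, 1), (1, 1)], ([6, 3, 7], [5, 7, 6], [2, 6, 5], [7, 1, 3], p3)),
   ([(1, 1), (2, 3)], ([2, 7, 4], [7, 1, 4], [3, 5, 7], [7, 6, 5], p3)),
   ([(1, 1), (1, 1), (1, 1), (1, 1)], ([11, 5, 7, 13], [13, 6, 15, 10], [12, 4, 11, 2], [15, 8, 2, 3], p4)),
   ([(1, 1), (1, 1), (2, 3)], ([12, 5, 1, 3], [4, 12, 6, 7], [13, 10, 11, 5], [6, 11, 14, 9], p4)),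
   ([(2, 3), (2, 3)], ([5, 6, 8, 12], [13, 14, 12, 4], [7, 12, 3, 10], [11, 15, 5, 7], p4)),
   ([(2, 1), (2, 3)], ([7, 13, 6, 5], [5, 9, 13, 10], [5, 15, 3, 7], [13, 9, 12, 10], p4)),
   ([(2, 1), (2, 1)], ([4, 2, 14, 9], [15, 2, 1, 7], [6, 12, 7, 14], [5, 10, 11, 9], p4)),
   ([(1, 1), (1, 1), (1, 1), (1, 1), (1, 1)], ([2, 30, 10, 27, 21], [22, 1, 28, 5, 26], [14, 15, 30, 21, 9], [3, 28, 14, 19, 5], p5)),
   ([(1, 1), (1, 1), (1, 1), (2, 3)], ([1, 2, 4, 24, 16], [1, 2, 4, 24, 16], [6, 21, 23, 16, 26], [13, 6, 7, 30, 8], p5)),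
   ([(1, 1), (2, 3), (2, 3)], ([21, 23, 22, 29, 24], [6, 3, 30, 9, 25], [13, 17, 18, 11, 1], [16, 22, 31, 14, 18], p5)),
   ([(1, 1), (2, 1), (2, 3)], ([11, 30, 8, 24, 10], [17, 20, 30, 4, 12], [9, 16, 29, 10, 22], [28, 21, 7, 29, 2], p5)),
   ([(1, 1), (2, 1), (2, 1)], ([21, 2, 3, 24, 29], [6, 2, 30, 17, 25], [25, 17, 31, 10, 22], [23, 11, 14, 3, 21], p5)),
   ([(2, 3), (2, 3), (2, 3)], ([55, 19, 14, 52, 48, 54], [33, 40, 24, 52, 11, 27], [24, 30, 62, 16, 27, 58], [54, 39, 36, 9, 8, 6], p6)),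
   ([(1, 1), (1, 1), (2, 1), (2, 3)], ([58, 11, 14, 34, 46, 40], [42, 28, 44, 52, 61, 20], [12, 34, 57, 13, 63, 60], [9, 57, 45, 44, 26, 59], p6)),
   ([(2, 1), (2, 3), (2, 3)], ([39, 40, 24, 22, 50, 33], [15, 22, 55, 45, 41, 47], [24, 29, 1, 59, 49, 31], [4, 34, 7, 58, 59, 47], p6)),
   ([(1, 1), (1, 1), (2, 1), (2, 1)], ([21, 5, 51, 14, 12, 4], [34, 24, 32, 48, 3, 61], [13, 24, 15, 58, 42, 60], [54, 5, 45, 26, 24, 15], p6)),
   ([(2, 1), (2, 1), (2, 3)], ([21, 2, 49, 55, 12, 22], [35, 2, 14, 30, 44, 11], [40, 33, 56, 41, 19, 15], [9, 28, 63, 10, 5, 11], p6)),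
   ([(2, 1), (2, 1), (2, 1)], ([4, 61, 20, 23, 36, 2], [44, 32, 1, 59, 5, 17], [38, 63, 28, 14, 34, 61], [22, 34, 17, 59, 46, 50], p6)),
   ([(1, 1), (1, 1), (1, 1), (1, 1), (1, 1), (2, 1)], ([20, 69, 37, 113, 67, 110, 9], [116, 105, 123, 52, 122, 11, 13], [19, 104, 27, 84, 9, 107, 30], [21, 55, 81, 5, 35, 125, 122], p34)),
   ([(1, 1), (2, 1), (2, 1), (2, 1)], ([64, 99, 30, 124, 123, 84, 29], [14, 74, 92, 111, 125, 71, 1], [45, 67, 26, 68, 35, 124, 118], [60, 71, 113, 39, 100, 107, 121], p7)),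
   ([(1, 1), (1, 1), (1, 1), (1, 1), (1, 1), (1, 1), (2, 1)], ([44, 2, 80, 90, 122, 51, 24, 216], [116, 2, 23, 14, 78, 24, 74, 138], [242, 245, 184, 35, 109, 16, 166, 81], [220, 194, 29, 187, 32, 22, 124, 137], p35)),
   ([(1, 1), (1, 1), (2, 1), (2, 1), (2, 1)], ([15, 252, 253, 110, 151, 68, 114, 236], [6, 205, 28, 214, 130, 51, 60, 69], [90, 140, 136, 41, 152, 50, 157, 233], [86, 153, 6, 243, 20, 173, 127, 247], p35)),
   ([(3, 1)], ([1, 4, 3], [1, 5, 2], [7, 5, 6], [5, 3, 7], p3)),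
   ([(3, 3)], ([6, 7, 4], [3, 5, 4], [4, 5, 2], [3, 4, 1], p3)),
   ([(3, 5)], ([1, 5, 6], [1, 7, 3], [5, 3, 2], [6, 4, 7], p3)),
   ([(3, 7)], ([3, 7, 5], [7, 6, 3], [6, 1, 2], [2, 4, 5], p3)),
   ([(4, 1)], ([3, 4, 15, 6], [11, 10, 2, 7], [13, 8, 10, 9], [10, 6, 9, 2], p4)),
   ([(4, 3)], ([2, 3, 6, 15], [3, 1, 5, 15], [7, 11, 5, 13], [11, 5, 15, 12], p4)),
   ([(4, 5)], ([1, 7, 5, 13], [1, 6, 5, 12], [3, 9, 12, 7], [15, 14, 9, 13], p4)),
   ([(4, 7)], ([11, 9, 15, 10], [9, 3, 5, 11], [4, 15, 7, 2], [13, 8, 1, 6], p4)),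
   ([(4, 9)], ([8, 9, 4, 7], [3, 15, 4, 1], [10, 7, 5, 4], [12, 6, 8, 7], p4)),
   ([(4, 11)], ([4, 2, 10, 7], [11, 2, 1, 6], [8, 13, 10, 4], [11, 5, 8, 1], p4)),
   ([(4, 13)], ([9, 10, 8, 5], [5, 6, 13, 4], [4, 13, 10, 5], [9, 14, 1, 10], p4)),
   ([(4, 15)], ([3, 13, 7, 2], [9, 8, 5, 14], [9, 4, 7, 2], [14, 8, 2, 15], p4)),
   ([(5, 1)], ([31, 13, 4, 7, 8], [22, 26, 4, 16, 25], [27, 20, 12, 10, 19], [30, 25, 21, 17, 23], p5)),
   ([(5, 3)], ([3, 12, 20, 13, 19], [10, 11, 21, 23, 17], [19, 1, 25, 23, 26], [2, 22, 9, 19, 21], p5)),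
   ([(5, 5)], ([14, 16, 17, 10, 24], [6, 26, 9, 18, 2], [31, 7, 30, 20, 29], [5, 17, 22, 29, 30], p5)),
   ([(5, 7)], ([7, 18, 12, 13, 16], [12, 18, 31, 27, 16], [12, 9, 25, 15, 20], [21, 28, 22, 23, 6], p5)),
   ([(5, 9)], ([12, 3, 22, 19, 17], [26, 24, 22, 23, 10], [10, 26, 6, 30, 29], [22, 14, 10, 15, 3], p5)),
   ([(5, 11)], ([23, 4, 12, 3, 9], [22, 30, 2, 6, 11], [10, 19, 5, 31, 30], [24, 23, 28, 22, 13], p5)),
   ([(5, 13)], ([15, 23, 3, 17, 31], [25, 29, 23, 18, 17], [9, 22, 7, 12, 6], [20, 13, 29, 21, 18], p5)),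
   ([(5, 15)], ([9, 4, 14, 26, 21], [28, 27, 2, 29, 14], [13, 19, 6, 22, 20], [22, 24, 28, 11, 12], p5)),
   ([(5, 17)], ([25, 6, 8, 29, 3], [27, 11, 9, 4, 30], [16, 9, 10, 4, 5], [24, 30, 8, 26, 1], p5)),
   ([(5, 19)], ([25, 13, 5, 10, 9], [22, 14, 18, 6, 17], [29, 10, 26, 4, 5], [24, 21, 8, 23, 6], p5)),
   ([(5, 21)], ([6, 3, 13, 7, 18], [9, 11, 10, 7, 27], [5, 14, 20, 2, 23], [28, 8, 29, 23, 25], p5)),
   ([(5, 23)], ([13, 1, 24, 2, 31], [2, 8, 30, 29, 25], [22, 18, 17, 23, 25], [9, 15, 3, 20, 13], p5)),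
   ([(5, 25)], ([2, 4, 7, 18, 25], [7, 1, 2, 30, 9], [10, 15, 22, 11, 26], [9, 31, 10, 30, 17], p5)),
   ([(5, 27)], ([31, 27, 6, 23, 1], [16, 7, 3, 9, 28], [15, 30, 21, 24, 5], [23, 13, 7, 28, 20], p5)),
   ([(5, 29)], ([6, 27, 4, 8, 30], [22, 5, 4, 8, 25], [27, 4, 10, 29, 9], [31, 11, 2, 15, 26], p5)),
   ([(5, 31)], ([7, 25, 19, 29, 1], [16, 27, 10, 29, 15], [6, 28, 7, 25, 8], [5, 14, 15, 16, 29], p5)),
   ([(6, 1)], ([3, 7, 5, 18, 30, 58], [7, 6, 3, 27, 14, 51], [29, 62, 41, 1, 21, 50], [8, 22, 51, 17, 43, 29], p6)),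
   ([(6, 3)], ([48, 39, 42, 30, 58, 54], [54, 44, 13, 61, 20, 21], [26, 20, 2, 62, 15, 58], [19, 4, 40, 47, 42, 33], p6)),
   ([(6, 5)], ([38, 60, 63, 1, 30, 15], [8, 14, 19, 53, 56, 28], [48, 60, 36, 21, 10, 42], [13, 39, 52, 55, 49, 48], p6)),
   ([(6, 7)], ([49, 18, 22, 8, 45, 13], [46, 29, 6, 8, 31, 48], [37, 3, 9, 57, 55, 12], [58, 56, 30, 62, 41, 37], p6)),
   ([(6, 9)], ([45, 27, 17, 29, 22, 50], [30, 41, 35, 47, 26, 19], [62, 35, 30, 20, 58, 59], [48, 55, 17, 59, 25, 5], p6)),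
   ([(6, 11)], ([26, 20, 40, 5, 32, 44], [44, 51, 36, 20, 38, 16], [25, 32, 27, 4, 13, 40], [58, 5, 8, 34, 25, 2], p6)),
   ([(6, 13)], ([3, 32, 9, 26, 55, 11], [37, 36, 30, 33, 13, 2], [57, 56, 19, 30, 51, 37], [3, 41, 55, 56, 46, 20], p6)),
   ([(6, 15)], ([31, 37, 39, 46, 47, 53], [24, 6, 41, 20, 34, 51], [18, 43, 56, 7, 61, 27], [7, 28, 19, 38, 29, 63], p6)),
   ([(6, 17)], ([5, 1, 56, 14, 22, 44], [2, 52, 3, 63, 39, 28], [24, 62, 55, 15, 20, 22], [41, 48, 62, 47, 46, 13], p6)),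
   ([(6, 19)], ([30, 53, 60, 8, 14, 33], [14, 43, 51, 8, 17, 46], [2, 37, 24, 6, 9, 20], [61, 1, 9, 45, 41, 54], p6)),
   ([(6, 21)], ([60, 62, 44, 58, 48, 5], [42, 3, 10, 27, 5, 21], [42, 31, 3, 46, 36, 23], [62, 58, 9, 34, 45, 25], p6)),
   ([(6, 23)], ([30, 46, 23, 15, 16, 60], [25, 50, 63, 28, 16, 19], [34, 4, 20, 53, 40, 58], [59, 54, 2, 39, 6, 55], p6)),
   ([(6, 25)], ([43, 45, 4, 62, 15, 54], [59, 7, 4, 40, 54, 21], [6, 34, 27, 2, 42, 54], [53, 8, 9, 18, 43, 10], p6)),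
   ([(6, 27)], ([30, 21, 50, 5, 52, 15], [43, 55, 35, 31, 10, 57], [22, 15, 59, 10, 38, 21], [29, 60, 23, 52, 42, 59], p6)),
   ([(6, 29)], ([30, 34, 9, 41, 52, 50], [23, 14, 62, 19, 34, 12], [4, 16, 54, 51, 22, 25], [13, 19, 1, 47, 2, 20], p6)),
   ([(6, 31)], ([50, 41, 30, 33, 40, 2], [18, 32, 21, 10, 59, 26], [25, 22, 18, 58, 14, 55], [19, 43, 6, 61, 47, 49], p6)),
   ([(6, 33)], ([43, 52, 7, 54, 21, 3], [42, 10, 36, 25, 30, 56], [13, 48, 43, 63, 30, 47], [50, 11, 36, 23, 40, 42], p6)),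
   ([(6, 35)], ([26, 30, 2, 16, 3, 32], [20, 4, 3, 13, 8, 32], [23, 32, 5, 59, 24, 16], [63, 37, 59, 48, 32, 2], p6)),
   ([(6, 37)], ([28, 27, 61, 10, 59, 25], [23, 34, 54, 42, 29, 18], [32, 1, 45, 51, 11, 60], [2, 45, 56, 63, 38, 1], p6)),
   ([(6, 39)], ([50, 45, 41, 5, 9, 15], [14, 54, 6, 30, 35, 20], [25, 58, 16, 50, 63, 49], [15, 39, 29, 10, 4, 43], p6)),
   ([(6, 41)], ([40, 23, 46, 15, 58, 37], [63, 41, 44, 50, 56, 51], [51, 26, 5, 23, 12, 42], [26, 57, 30, 14, 53, 23], p6)),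
   ([(6, 43)], ([13, 4, 58, 26, 27, 25], [24, 48, 2, 27, 35, 12], [26, 57, 42, 31, 14, 61], [43, 30, 34, 44, 51, 54], p6)),
   ([(6, 45)], ([45, 14, 53, 61, 40, 9], [44, 51, 61, 12, 9, 28], [33, 16, 31, 43, 3, 60], [53, 37, 58, 44, 2, 52], p6)),
   ([(6, 47)], ([22, 25, 55, 43, 24, 21], [18, 51, 28, 62, 46, 23], [55, 17, 25, 10, 56, 57], [48, 14, 41, 6, 50, 36], p6)),
   ([(6, 49)], ([14, 48, 33, 34, 23, 9], [55, 59, 45, 23, 49, 51], [48, 56, 47, 20, 18, 12], [53, 59, 35, 3, 43, 42], p6)),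
   ([(6, 51)], ([61, 23, 22, 14, 28, 20], [6, 36, 28, 48, 60, 23], [48, 29, 41, 19, 13, 6], [61, 39, 7, 42, 18, 19], p6)),
   ([(6, 53)], ([18, 24, 7, 44, 8, 22], [54, 19, 33, 16, 18, 57], [30, 58, 57, 54, 13, 47], [26, 28, 47, 37, 23, 44], p6)),
   ([(6, 55)], ([16, 46, 50, 10, 42, 27], [41, 29, 18, 21, 1, 24], [2, 30, 40, 15, 53, 34], [23, 1, 59, 37, 29, 33], p6)),
   ([(6, 57)], ([46, 50, 35, 4, 29, 60], [19, 52, 8, 30, 21, 35], [38, 27, 63, 57, 14, 56], [40, 7, 11, 28, 49, 13], p6)),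
   ([(6, 59)], ([1, 49, 33, 39, 58, 53], [1, 46, 34, 61, 6, 5], [57, 12, 3, 11, 22, 63], [43, 47, 14, 12, 49, 23], p6)),
   ([(6, 61)], ([8, 38, 59, 39, 19, 42], [10, 52, 35, 1, 46, 21], [58, 12, 23, 4, 9, 35], [26, 39, 8, 10, 49, 29], p6)),
   ([(6, 63)], ([15, 9, 4, 63, 3, 17], [23, 7, 4, 21, 55, 62], [7, 51, 49, 32, 48, 45], [20, 6, 19, 47, 24, 8], p6)),
   ([(3, 1), (1, 1)], ([11, 13, 7, 9], [7, 9, 10, 15], [11, 7, 13, 9], [7, 9, 12, 15], p4)),
   ([(3, 3), (1, 1)], ([9, 14, 13, 5], [13, 11, 5, 12], [10, 8, 9, 6], [6, 3, 11, 2], p4)),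
   ([(3, 5), (1, 1)], ([9, 15, 2, 7], [11, 4, 7, 10], [10, 6, 5, 1], [8, 14, 12, 15], p4)),
   ([(3, 7), (1, 1)], ([9, 10, 11, 12], [6, 5, 15, 7], [13, 3, 12, 10], [5, 7, 11, 15], p4)),
   ([(4, 1), (1, 1)], ([12, 8, 31, 22, 7], [14, 29, 3, 2, 22], [12, 30, 19, 9, 14], [7, 17, 14, 15, 18], p5)),
   ([(4, 3), (1, 1)], ([26, 8, 7, 23, 12], [25, 15, 18, 2, 12], [14, 12, 18, 25, 20], [26, 3, 23, 21, 7], p5)),
   ([(4, 5), (1, 1)], ([18, 26, 14, 17, 10], [26, 19, 20, 3, 18], [10, 6, 25, 14, 3], [27, 11, 9, 10, 21], p5)),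
   ([(4, 7), (1, 1)], ([22, 18, 31, 30, 2], [12, 16, 3, 9, 18], [22, 31, 15, 17, 4], [14, 23, 16, 13, 6], p5)),
   ([(4, 9), (1, 1)], ([7, 18, 29, 14, 30], [14, 26, 21, 7, 24], [31, 15, 28, 18, 23], [14, 11, 22, 17, 3], p5)),
   ([(4, 11), (1, 1)], ([1, 10, 13, 15, 25], [1, 12, 11, 14, 31], [22, 16, 23, 24, 12], [5, 25, 26, 10, 2], p5)),
   ([(4, 13), (1, 1)], ([17, 18, 12, 22, 9], [30, 29, 10, 14, 31], [10, 21, 29, 18, 17], [31, 7, 18, 6, 15], p5)),
   ([(4, 15), (1, 1)], ([28, 15, 29, 5, 26], [5, 28, 13, 22, 26], [28, 1, 27, 15, 31], [2, 19, 20, 13, 24], p5)),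
   ([(5, 1), (1, 1)], ([23, 43, 12, 10, 63, 31], [58, 41, 37, 33, 55, 48], [24, 56, 27, 49, 25, 36], [17, 20, 35, 27, 26, 3], p6)),
   ([(5, 3), (1, 1)], ([62, 48, 33, 13, 52, 39], [61, 54, 18, 39, 59, 57], [25, 46, 2, 43, 4, 34], [26, 4, 16, 50, 41, 36], p6)),
   ([(5, 5), (1, 1)], ([27, 33, 18, 14, 22, 41], [39, 62, 20, 34, 58, 37], [32, 12, 59, 60, 20, 9], [57, 46, 27, 25, 11, 1], p6)),
   ([(5, 7), (1, 1)], ([41, 12, 42, 29, 23, 22], [48, 53, 47, 45, 58, 28], [31, 52, 10, 45, 41, 16], [61, 19, 24, 23, 32, 58], p6)),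
   ([(5, 9), (1, 1)], ([16, 10, 13, 48, 49, 62], [24, 52, 42, 54, 1, 9], [20, 35, 47, 31, 27, 25], [39, 48, 24, 30, 25, 21], p6)),
   ([(5, 11), (1, 1)], ([23, 11, 4, 18, 53, 55], [13, 48, 4, 63, 56, 33], [40, 38, 56, 7, 26, 18], [59, 37, 22, 48, 5, 49], p6)),
   ([(5, 13), (1, 1)], ([44, 22, 25, 51, 30, 20], [25, 34, 47, 18, 15, 60], [11, 48, 47, 6, 22, 56], [52, 23, 31, 34, 24, 26], p6)),
   ([(5, 15), (1, 1)], ([34, 43, 2, 27, 54, 60], [55, 4, 30, 52, 15, 5], [56, 50, 42, 41, 60, 33], [39, 43, 17, 40, 46, 7], p6)),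
   ([(5, 17), (1, 1)], ([11, 35, 1, 37, 55, 32], [4, 38, 44, 35, 62, 32], [30, 23, 16, 1, 35, 57], [8, 63, 49, 11, 4, 39], p6)),
   ([(5, 19), (1, 1)], ([13, 26, 32, 62, 1, 21], [16, 35, 14, 31, 62, 4], [30, 44, 45, 22, 26, 11], [6, 47, 17, 9, 54, 26], p6)),
   ([(5, 21), (1, 1)], ([6, 13, 48, 16, 33, 8], [28, 63, 62, 32, 8, 12], [9, 35, 58, 37, 52, 46], [31, 41, 35, 30, 7, 52], p6)),
   ([(5, 23), (1, 1)], ([1, 59, 54, 42, 45, 35], [1, 55, 46, 41, 11, 22], [13, 32, 20, 39, 6, 28], [26, 47, 63, 36, 59, 2], p6)),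
   ([(5, 25), (1, 1)], ([17, 22, 50, 19, 28, 57], [54, 9, 60, 27, 55, 58], [11, 62, 35, 61, 9, 37], [27, 17, 53, 11, 35, 14], p6)),
   ([(5, 27), (1, 1)], ([15, 61, 20, 54, 47, 42], [59, 29, 11, 44, 15, 17], [51, 39, 21, 23, 25, 9], [7, 12, 51, 39, 48, 58], p6)),
   ([(5, 29), (1, 1)], ([23, 25, 61, 33, 30, 17], [51, 28, 61, 34, 19, 59], [24, 8, 13, 40, 15, 1], [32, 20, 38, 2, 3, 10], p6)),
   ([(5, 31), (1, 1)], ([20, 41, 17, 46, 52, 36], [52, 15, 49, 39, 48, 17], [21, 56, 43, 10, 2, 7], [39, 16, 23, 24, 49, 43], p6)),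
   ([(3, 1), (1, 1), (1, 1)], ([7, 9, 19, 28, 5], [15, 17, 31, 13, 26], [7, 21, 9, 26, 3], [15, 31, 17, 11, 28], p5)),
   ([(3, 3), (1, 1), (1, 1)], ([30, 10, 22, 6, 15], [29, 7, 15, 5, 12], [18, 7, 31, 9, 26], [25, 22, 13, 17, 23], p5)),
   ([(3, 5), (1, 1), (1, 1)], ([29, 6, 18, 16, 23], [26, 12, 14, 29, 8], [17, 12, 6, 25, 26], [23, 15, 11, 9, 22], p5)),
   ([(3, 7), (1, 1), (1, 1)], ([11, 24, 29, 31, 27], [30, 12, 24, 19, 17], [18, 21, 28, 30, 4], [31, 12, 16, 25, 13], p5)),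
   ([(4, 1), (1, 1), (1, 1)], ([29, 52, 55, 13, 10, 15], [46, 40, 30, 56, 9, 21], [50, 60, 38, 24, 11, 28], [59, 14, 40, 37, 45, 34], p6)),
   ([(4, 3), (1, 1), (1, 1)], ([49, 7, 62, 63, 2, 17], [12, 16, 30, 7, 44, 33], [24, 19, 56, 9, 48, 38], [28, 11, 46, 20, 21, 5], p6)),
   ([(4, 5), (1, 1), (1, 1)], ([58, 24, 20, 42, 47, 19], [21, 60, 13, 11, 9, 63], [21, 36, 26, 52, 53, 13], [24, 37, 19, 43, 10, 17], p6)),
   ([(4, 7), (1, 1), (1, 1)], ([18, 60, 39, 21, 55, 4], [60, 21, 32, 59, 20, 13], [58, 46, 27, 41, 45, 6], [42, 56, 24, 13, 27, 47], p6)),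
   ([(4, 9), (1, 1), (1, 1)], ([7, 22, 12, 51, 6, 44], [17, 47, 63, 59, 18, 36], [6, 33, 60, 23, 7, 46], [17, 60, 61, 50, 24, 19], p6)),
   ([(4, 11), (1, 1), (1, 1)], ([47, 7, 58, 25, 53, 19], [39, 62, 27, 22, 57, 21], [20, 46, 18, 23, 22, 24], [24, 17, 20, 53, 21, 50], p6)),
   ([(4, 13), (1, 1), (1, 1)], ([29, 12, 35, 51, 52, 15], [15, 45, 58, 56, 12, 38], [29, 37, 46, 23, 34, 15], [15, 59, 38, 50, 26, 43], p6)),
   ([(4, 15), (1, 1), (1, 1)], ([15, 2, 1, 48, 5, 33], [4, 2, 20, 19, 44, 36], [35, 33, 12, 3, 37, 25], [11, 3, 18, 22, 61, 9], p6)),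
   ([(3, 1), (2, 1)], ([4, 13, 16, 24, 27], [15, 23, 1, 12, 4], [10, 28, 30, 1, 19], [8, 6, 27, 7, 30], p5)),
   ([(3, 3), (2, 1)], ([6, 8, 1, 11, 30], [4, 14, 15, 2, 19], [13, 9, 17, 20, 19], [15, 20, 3, 13, 11], p5)),
   ([(3, 5), (2, 1)], ([18, 26, 1, 7, 30], [4, 30, 18, 3, 31], [25, 17, 9, 30, 4], [7, 30, 16, 3, 5], p5)),
   ([(3, 7), (2, 1)], ([5, 31, 1, 17, 7], [4, 17, 5, 30, 12], [24, 20, 6, 15, 13], [19, 24, 28, 31, 30], p5)),
   ([(4, 1), (2, 1)], ([61, 36, 31, 50, 24, 20], [19, 42, 45, 29, 13, 47], [57, 12, 7, 17, 14, 4], [54, 18, 32, 34, 62, 43], p6)),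
   ([(4, 3), (2, 1)], ([24, 54, 14, 8, 36, 59], [61, 27, 23, 8, 9, 7], [41, 53, 47, 19, 25, 34], [57, 47, 42, 55, 30, 15], p6)),
   ([(4, 5), (2, 1)], ([33, 5, 2, 30, 24, 12], [30, 4, 28, 60, 44, 31], [27, 14, 57, 42, 54, 12], [22, 34, 45, 13, 56, 39], p6)),
   ([(4, 7), (2, 1)], ([1, 27, 40, 32, 38, 37], [1, 49, 41, 12, 62, 8], [22, 9, 63, 38, 58, 17], [46, 53, 58, 44, 14, 7], p6)),
   ([(4, 9), (2, 1)], ([5, 4, 21, 62, 52, 34], [3, 55, 2, 47, 5, 23], [24, 44, 10, 50, 27, 39], [38, 55, 60, 51, 50, 13], p6)),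
   ([(4, 11), (2, 1)], ([30, 52, 2, 39, 16, 32], [30, 4, 50, 39, 16, 32], [27, 32, 40, 3, 33, 62], [18, 26, 49, 6, 15, 2], p6)),
   ([(4, 13), (2, 1)], ([46, 6, 48, 59, 39, 58], [40, 29, 31, 57, 62, 58], [7, 38, 62, 61, 41, 29], [43, 39, 13, 19, 21, 40], p6)),
   ([(4, 15), (2, 1)], ([28, 34, 54, 30, 49, 24], [60, 9, 33, 7, 39, 11], [26, 20, 6, 36, 12, 55], [46, 19, 23, 7, 21, 31], p6)),
   ([(3, 1), (2, 3)], ([29, 18, 5, 28, 20], [9, 31, 13, 24, 29], [16, 15, 6, 26, 27], [24, 23, 19, 30, 1], p5)),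
   ([(3, 3), (2, 3)], ([27, 30, 25, 13, 12], [24, 5, 27, 11, 23], [10, 1, 25, 14, 31], [2, 29, 9, 28, 26], p5)),
   ([(3, 5), (2, 3)], ([13, 22, 14, 8, 9], [24, 29, 17, 8, 14], [7, 22, 28, 20, 31], [30, 10, 21, 12, 29], p5)),
   ([(3, 7), (2, 3)], ([19, 4, 7, 11, 21], [21, 19, 2, 14, 7], [6, 16, 30, 10, 11], [24, 15, 14, 7, 2], p5)),
   ([(4, 1), (2, 3)], ([26, 7, 15, 47, 28, 16], [19, 39, 54, 6, 32, 12], [36, 40, 19, 32, 24, 62], [47, 49, 9, 10, 26, 8], p6)),
   ([(4, 3), (2, 3)], ([59, 55, 41, 21, 17, 49], [47, 58, 24, 27, 63, 48], [18, 31, 3, 37, 29, 22], [22, 18, 33, 52, 19, 63], p6)),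
   ([(4, 5), (2, 3)], ([39, 48, 28, 47, 43, 50], [44, 34, 24, 9, 21, 23], [60, 7, 36, 26, 1, 43], [16, 13, 31, 38, 35, 27], p6)),
   ([(4, 7), (2, 3)], ([30, 3, 10, 6, 61, 31], [33, 35, 43, 39, 46, 19], [46, 17, 5, 29, 38, 7], [31, 36, 27, 17, 29, 47], p6)),
   ([(4, 9), (2, 3)], ([5, 35, 48, 16, 43, 28], [59, 53, 58, 18, 8, 12], [35, 14, 53, 7, 20, 23], [37, 21, 56, 47, 40, 49], p6)),
   ([(4, 11), (2, 3)], ([41, 14, 9, 16, 38, 29], [19, 57, 44, 23, 8, 5], [6, 3, 17, 33, 59, 19], [38, 36, 37, 30, 34, 46], p6)),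
   ([(4, 13), (2, 3)], ([15, 42, 40, 16, 28, 47], [31, 6, 61, 37, 8, 33], [46, 38, 44, 18, 33, 9], [35, 5, 52, 3, 13, 51], p6)),
   ([(4, 15), (2, 3)], ([13, 43, 34, 41, 63, 19], [63, 10, 7, 57, 21, 14], [15, 10, 60, 32, 50, 27], [21, 47, 22, 45, 55, 8], p6)),
   ([(3, 1), (2, 1), (1, 1)], ([33, 18, 48, 19, 55, 8], [10, 13, 19, 32, 15, 11], [5, 13, 40, 6, 28, 30], [57, 48, 56, 3, 43, 7], p6)),
   ([(3, 3), (2, 1), (1, 1)], ([5, 16, 26, 24, 56, 3], [44, 12, 45, 10, 2, 24], [45, 57, 44, 26, 5, 47], [5, 33, 21, 63, 22, 46], p6)),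
   ([(3, 5), (2, 1), (1, 1)], ([5, 53, 19, 15, 51, 30], [63, 44, 62, 37, 23, 20], [55, 17, 29, 44, 58, 30], [23, 51, 62, 56, 21, 14], p6)),
   ([(3, 7), (2, 1), (1, 1)], ([38, 35, 47, 37, 34, 56], [18, 27, 17, 23, 60, 11], [23, 41, 31, 44, 53, 27], [46, 56, 36, 5, 51, 41], p6)),
   ([(4, 1), (2, 1), (1, 1)], ([16, 110, 2, 100, 32, 66, 11], [74, 4, 60, 14, 1, 16, 36], [100, 87, 12, 122, 99, 10, 96], [53, 101, 65, 69, 104, 59, 123], p7)),
   ([(4, 3), (2, 1), (1, 1)], ([4, 14, 66, 3, 40, 82, 101], [86, 94, 1, 93, 36, 77, 90], [68, 7, 82, 32, 59, 119, 79], [94, 46, 114, 49, 89, 8, 115], p7)),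
   ([(4, 5), (2, 1), (1, 1)], ([23, 53, 46, 16, 108, 77, 97], [87, 100, 58, 61, 8, 103, 112], [119, 43, 95, 108, 17, 117, 63], [38, 33, 116, 56, 54, 61, 121], p7)),
   ([(4, 7), (2, 1), (1, 1)], ([78, 117, 33, 13, 114, 22, 18], [47, 93, 96, 71, 29, 43, 123], [25, 88, 63, 85, 94, 123, 61], [113, 68, 86, 45, 93, 23, 114], p7)),
   ([(4, 9), (2, 1), (1, 1)], ([58, 21, 17, 83, 37, 108, 38], [47, 127, 6, 108, 43, 57, 115], [88, 100, 11, 92, 3, 122, 2], [80, 64, 9, 20, 127, 97, 106], p7)),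
   ([(4, 11), (2, 1), (1, 1)], ([10, 119, 81, 50, 67, 27, 58], [124, 73, 83, 72, 93, 28, 37], [95, 110, 77, 36, 76, 59, 38], [20, 72, 82, 107, 77, 90, 41], p7)),
   ([(4, 13), (2, 1), (1, 1)], ([123, 34, 67, 87, 27, 80, 109], [23, 77, 114, 52, 126, 79, 94], [90, 26, 83, 101, 18, 25, 43], [23, 53, 108, 18, 37, 112, 3], p7)),
   ([(4, 15), (2, 1), (1, 1)], ([43, 50, 57, 103, 105, 38, 102], [72, 113, 86, 63, 116, 7, 96], [84, 107, 17, 55, 85, 103, 100], [17, 113, 41, 11, 21, 84, 61], p7)),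
   ([(3, 1), (2, 1), (1, 1), (1, 1)], ([64, 74, 98, 122, 126, 2, 87], [86, 32, 24, 35, 47, 37, 1], [57, 29, 126, 34, 50, 66, 121], [79, 97, 106, 63, 24, 105, 65], p7)),
   ([(3, 3), (2, 1), (1, 1), (1, 1)], ([69, 89, 120, 60, 99, 45, 41], [13, 122, 96, 70, 37, 11, 108], [59, 27, 108, 106, 104, 86, 23], [37, 24, 20, 86, 105, 3, 69], p7)),
   ([(3, 5), (2, 1), (1, 1), (1, 1)], ([17, 86, 98, 53, 88, 40, 60], [14, 59, 111, 70, 15, 102, 89], [50, 19, 72, 56, 59, 67, 70], [45, 53, 77, 60, 26, 46, 56], p7)),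
   ([(3, 7), (2, 1), (1, 1), (1, 1)], ([60, 84, 115, 85, 109, 77, 103], [10, 37, 25, 117, 93, 48, 70], [40, 21, 92, 26, 49, 91, 89], [121, 96, 61, 46, 70, 47, 81], p7)),
   ([(4, 1), (2, 1), (1, 1), (1, 1)], ([165, 84, 198, 218, 163, 23, 73, 244], [78, 220, 205, 190, 127, 39, 176, 165], [70, 38, 87, 21, 26, 179, 150, 98], [225, 131, 13, 119, 228, 140, 143, 42], p35)),
   ([(4, 3), (2, 1), (1, 1), (1, 1)], ([223, 73, 136, 132, 197, 100, 52, 120], [212, 167, 22, 26, 172, 250, 204, 30], [230, 96, 57, 147, 115, 141, 183, 195], [201, 173, 180, 71, 118, 252, 254, 26], p35)),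
   ([(4, 5), (2, 1), (1, 1), (1, 1)], ([233, 47, 6, 235, 27, 243, 209, 72], [49, 9, 13, 94, 118, 105, 222, 217], [119, 59, 26, 99, 91, 204, 118, 74], [65, 91, 216, 142, 209, 71, 85, 35], p35)),
   ([(4, 7), (2, 1), (1, 1), (1, 1)], ([51, 71, 162, 138, 170, 118, 194, 78], [150, 35, 235, 20, 172, 24, 92, 63], [8, 25, 152, 74, 38, 56, 12, 61], [225, 146, 65, 1, 226, 195, 155, 231], p35)),
   ([(4, 9), (2, 1), (1, 1), (1, 1)], ([188, 18, 74, 50, 199, 137, 151, 42], [193, 220, 52, 86, 222, 10, 142, 183], [22, 172, 117, 183, 51, 48, 192, 65], [124, 76, 164, 211, 233, 201, 252, 188], p35)),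
   ([(4, 11), (2, 1), (1, 1), (1, 1)], ([55, 23, 144, 63, 233, 5, 155, 217], [252, 177, 220, 9, 147, 3, 113, 151], [83, 233, 41, 13, 89, 82, 127, 22], [33, 92, 100, 77, 184, 104, 196, 194], p35)),
   ([(4, 13), (2, 1), (1, 1), (1, 1)], ([168, 192, 231, 72, 59, 178, 255, 155], [58, 101, 82, 145, 213, 11, 153, 155], [36, 133, 197, 128, 70, 126, 48, 101], [135, 155, 141, 112, 204, 140, 6, 8], p35)),
   ([(4, 15), (2, 1), (1, 1), (1, 1)], ([147, 134, 67, 151, 216, 19, 182, 217], [144, 42, 9, 21, 154, 216, 190, 33], [147, 155, 121, 55, 254, 106, 22, 107], [160, 85, 196, 3, 209, 232, 158, 37], p35)),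
   ([(4, 1), (1, 1)], ([14, 11, 24, 8, 20], [31, 21, 28, 8, 12], [27, 28, 13, 30, 26], [17, 10, 24, 13, 23], p5)),
   ([(4, 3), (1, 1)], ([15, 11, 7, 6, 25], [12, 11, 3, 5, 25], [17, 3, 22, 28, 12], [25, 27, 7, 23, 24], p5)),
   ([(4, 5), (1, 1)], ([6, 11, 24, 4, 25], [20, 9, 8, 31, 27], [10, 8, 18, 13, 19], [20, 3, 30, 2, 7], p5)),
   ([(4, 7), (1, 1)], ([19, 29, 3, 10, 1], [16, 20, 11, 28, 5], [28, 17, 15, 22, 18], [21, 7, 24, 14, 23], p5)),
   ([(4, 9), (1, 1)], ([1, 24, 11, 13, 23], [1, 26, 22, 31, 29], [7, 12, 28, 13, 31], [10, 30, 21, 23, 6], p5)),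
   ([(4, 11), (1, 1)], ([17, 3, 23, 31, 2], [18, 16, 21, 12, 19], [23, 24, 13, 12, 31], [12, 7, 25, 17, 19], p5)),
   ([(4, 13), (1, 1)], ([18, 19, 24, 8, 14], [3, 13, 21, 8, 12], [6, 16, 2, 30, 29], [28, 4, 5, 11, 2], p5)),
   ([(4, 15), (1, 1)], ([5, 17, 24, 31, 15], [26, 13, 27, 28, 24], [20, 6, 26, 10, 13], [26, 15, 13, 7, 12], p5)),
   ([(3, 1), (1, 1)], ([14, 15, 12, 10], [3, 5, 9, 13], [14, 5, 15, 13], [5, 12, 7, 10], p4)),
   ([(3, 3), (1, 1)], ([12, 15, 5, 13], [9, 10, 13, 12], [11, 5, 2, 13], [15, 4, 13, 10], p4)),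
   ([(3, 5), (1, 1)], ([6, 14, 2, 11], [15, 4, 5, 3], [9, 3, 8, 6], [5, 7, 15, 4], p4)),
   ([(3, 7), (1, 1)], ([14, 3, 1, 9], [4, 6, 11, 12], [14, 7, 6, 3], [6, 14, 10, 5], p4)),
   ([(3, 1), (1, 1), (1, 1)], ([7, 29, 28, 5, 14], [6, 9, 14, 23, 29], [13, 18, 2, 22, 7], [30, 4, 10, 21, 6], p5)),
   ([(3, 3), (1, 1), (1, 1)], ([24, 5, 11, 16, 17], [24, 21, 26, 9, 8], [17, 11, 8, 23, 7], [25, 31, 22, 4, 24], p5)),
   ([(3, 5), (1, 1), (1, 1)], ([18, 27, 12, 28, 15], [25, 13, 30, 26, 12], [17, 19, 10, 11, 20], [12, 3, 29, 7, 13], p5)),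
   ([(3, 7), (1, 1), (1, 1)], ([6, 8, 7, 11, 29], [5, 15, 14, 2, 25], [13, 9, 25, 26, 11], [30, 18, 3, 28, 6], p5)),
   ([(3, 1), (2, 1)], ([2, 22, 9, 3, 13], [9, 1, 20, 13, 23], [24, 20, 3, 28, 25], [17, 21, 9, 10, 11], p5)),
   ([(3, 3), (2, 1)], ([28, 7, 11, 29, 30], [9, 17, 26, 28, 7], [11, 20, 23, 10, 19], [9, 15, 20, 7, 22], p5)),
   ([(3, 5), (2, 1)], ([22, 6, 27, 26, 30], [12, 26, 24, 17, 3], [6, 7, 26, 23, 31], [3, 22, 23, 24, 10], p5)),
   ([(3, 7), (2, 1)], ([26, 21, 30, 18, 14], [19, 28, 5, 9, 20], [21, 27, 19, 23, 13], [26, 9, 12, 6, 23], p5)),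
   ([(3, 1), (2, 3)], ([15, 12, 23, 29, 11], [28, 31, 17, 19, 22], [31, 24, 13, 15, 28], [29, 12, 18, 11, 9], p5)),
   ([(3, 3), (2, 3)], ([17, 14, 19, 11, 30], [19, 5, 25, 30, 18], [9, 18, 5, 15, 11], [28, 17, 24, 29, 19], p5)),
   ([(3, 5), (2, 3)], ([30, 1, 13, 11, 4], [2, 28, 16, 22, 27], [10, 26, 24, 19, 30], [13, 6, 18, 7, 3], p5)),
   ([(3, 7), (2, 3)], ([9, 14, 29, 2, 27], [23, 8, 28, 22, 25], [16, 28, 23, 17, 19], [9, 24, 20, 23, 1], p5)),
   ([(2, 1), (2, 1)], ([11, 2, 10, 15], [5, 2, 9, 6], [7, 3, 12, 13], [12, 14, 3, 7], p4)),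
   ([(2, 3), (2, 1)], ([10, 1, 13, 15], [2, 12, 11, 13], [4, 15, 14, 6], [6, 9, 1, 12], p4)),
   ([(2, 1), (2, 3)], ([3, 15, 6, 14], [10, 11, 15, 12], [15, 6, 7, 10], [6, 13, 15, 5], p4)),
   ([(2, 3), (2, 3)], ([9, 4, 11, 10], [12, 5, 2, 13], [9, 5, 1, 11], [4, 9, 6, 5], p4)),
   ([(2, 1), (2, 1), (1, 1)], ([19, 30, 5, 28, 18], [17, 10, 21, 7, 26], [3, 29, 26, 12, 6], [22, 23, 7, 15, 28], p5)),
   ([(2, 3), (2, 1), (1, 1)], ([14, 11, 17, 10, 3], [10, 26, 9, 18, 14], [8, 24, 2, 19, 14], [15, 4, 21, 1, 3], p5)),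
   ([(2, 1), (2, 1), (1, 1), (1, 1)], ([51, 16, 62, 48, 31, 4], [30, 23, 32, 59, 2, 10], [20, 21, 11, 28, 33, 50], [3, 14, 60, 9, 61, 19], p6)),
   ([(2, 3), (2, 1), (1, 1), (1, 1)], ([18, 13, 24, 42, 37, 28], [57, 26, 36, 31, 27, 13], [57, 51, 42, 52, 21, 60], [31, 43, 62, 40, 49, 7], p6)),
   ([(3, 1)], ([2, 5, 4], [6, 1, 4], [6, 3, 7], [5, 7, 6], p3)),
   ([(3, 3)], ([6, 7, 4], [3, 5, 4], [4, 5, 2], [3, 4, 1], p3)),
   ([(3, 5)], ([3, 6, 2], [5, 4, 6], [5, 3, 2], [6, 4, 7], p3)),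
   ([(3, 7)], ([6, 5, 4], [6, 5, 4], [2, 7, 6], [6, 1, 5], p3)),
   ([(5, 1), (1, 1), (1, 1)], ([87, 69, 80, 121, 98, 116, 86], [65, 119, 51, 90, 116, 23, 112], [4, 85, 33, 15, 70, 27, 117], [70, 125, 1, 50, 41, 66, 108], p7)),
   ([(5, 3), (1, 1), (1, 1)], ([126, 101, 117, 58, 39, 103, 38], [80, 34, 57, 119, 6, 91, 48], [27, 74, 63, 32, 119, 9, 35], [94, 22, 13, 126, 55, 8, 106], p7)),
   ([(5, 5), (1, 1), (1, 1)], ([113, 17, 123, 56, 111, 117, 19], [55, 66, 33, 71, 53, 122, 121], [123, 89, 102, 108, 42, 74, 71], [88, 31, 43, 19, 101, 28, 44], p7)),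
   ([(5, 7), (1, 1), (1, 1)], ([101, 114, 121, 107, 30, 94, 106], [72, 21, 71, 91, 25, 62, 48], [60, 44, 58, 14, 120, 70, 1], [64, 49, 52, 13, 3, 59, 37], p7)),
   ([(5, 9), (1, 1), (1, 1)], ([98, 25, 94, 119, 89, 91, 125], [87, 48, 115, 120, 45, 35, 18], [18, 12, 38, 122, 40, 113, 81], [78, 22, 114, 112, 23, 96, 25], p7)),
   ([(5, 11), (1, 1), (1, 1)], ([4, 12, 88, 76, 108, 106, 77], [72, 49, 1, 3, 13, 24, 10], [67, 43, 24, 69, 14, 41, 101], [113, 34, 43, 25, 29, 72, 82], p7)),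
   ([(5, 13), (1, 1), (1, 1)], ([25, 9, 115, 109, 2, 49, 24], [65, 16, 92, 67, 3, 98, 52], [53, 55, 92, 108, 83, 36, 47], [121, 3, 116, 26, 88, 84, 50], p7)),
   ([(5, 15), (1, 1), (1, 1)], ([62, 106, 12, 30, 46, 23, 92], [107, 29, 71, 67, 17, 9, 85], [88, 31, 110, 86, 68, 51, 70], [67, 80, 102, 63, 72, 123, 118], p7)),
   ([(5, 17), (1, 1), (1, 1)], ([84, 104, 112, 31, 47, 57, 118], [74, 45, 105, 114, 116, 108, 28], [63, 56, 89, 101, 41, 34, 2], [77, 64, 14, 61, 95, 96, 43], p7)),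
   ([(5, 19), (1, 1), (1, 1)], ([113, 52, 81, 34, 11, 5, 123], [81, 13, 113, 76, 118, 5, 35], [24, 123, 102, 109, 93, 96, 87], [92, 127, 91, 47, 46, 54, 22], p7)),
   ([(5, 21), (1, 1), (1, 1)], ([122, 44, 30, 40, 93, 75, 51], [70, 97, 10, 52, 91, 60, 51], [79, 30, 72, 100, 11, 127, 112], [90, 47, 112, 101, 56, 25, 97], p7)),
   ([(5, 23), (1, 1), (1, 1)], ([116, 18, 38, 74, 13, 30, 29], [50, 82, 127, 93, 80, 41, 7], [98, 44, 74, 123, 76, 101, 18], [53, 19, 7, 111, 83, 106, 120], p7)),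
   ([(5, 25), (1, 1), (1, 1)], ([127, 105, 110, 86, 65, 24, 93], [27, 109, 112, 62, 30, 44, 11], [58, 76, 117, 32, 14, 15, 115], [48, 55, 115, 84, 106, 8, 37], p7)),
   ([(5, 27), (1, 1), (1, 1)], ([53, 88, 81, 49, 126, 102, 39], [82, 37, 9, 84, 100, 62, 50], [13, 31, 19, 100, 24, 73, 102], [7, 72, 93, 91, 75, 41, 124], p7)),
   ([(5, 29), (1, 1), (1, 1)], ([117, 97, 13, 91, 2, 51, 107], [120, 16, 46, 82, 45, 101, 31], [27, 126, 116, 53, 14, 104, 62], [78, 125, 22, 123, 73, 25, 66], p7)),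
   ([(5, 31), (1, 1), (1, 1)], ([94, 70, 117, 116, 74, 66, 56], [12, 122, 34, 48, 51, 67, 90], [27, 64, 53, 36, 2, 71, 21], [126, 16, 76, 29, 114, 68, 2], p7)),
   ([(1, 1), (1, 1), (1, 1), (1, 1), (2, 1)], ([42, 48, 41, 56, 6, 60], [61, 56, 40, 10, 49, 51], [14, 10, 38, 58, 25, 17], [31, 50, 3, 48, 63, 53], p33))]

end CfsgLib.OreOrth.Two
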